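import Mathlib.CategoryTheory.Abelian.GrothendieckAxioms.Colim
import Mathlib.CategoryTheory.Abelian.GrothendieckCategory.Basic
import Mathlib.CategoryTheory.Subobject.Limits
import Mathlib.Algebra.Homology.ShortComplex.ShortExact

/-!
Properties closed under extensions, cokernels of monomorphisms and filtered colimits.
-/

set_option autoImplicit false
universe v u

open CategoryTheory CategoryTheory.Limits ZeroObject

namespace GrothLib.CohVan19

variable {A : Type u} [Category.{v} A] [Abelian A]

/-- Closure properties of a property of objects. -/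
structure IsClosedProp (P : A → Prop) : Prop where
  zero : ∀ Z, IsZero Z → P Z
  ext : ∀ S : ShortComplex A, S.ShortExact → P S.X₁ → P S.X₃ → P S.X₂
  coker : ∀ S : ShortComplex A, S.ShortExact → P S.X₁ → P S.X₂ → P S.X₃
  colim : ∀ (J : Type v) [SmallCategory J] [IsFiltered J] (D : J ⥤ A) (c : Cocone D),
    IsColimit c → (∀ j, P (D.obj j)) → P c.pt

variable {P : A → Prop} (hP : IsClosedProp P)
include hP

theorem IsClosedProp.of_iso {X Y : A} (e : X ≅ Y) (h : P X) : P Y := by
  let S : ShortComplex A := ShortComplex.mk e.hom (0 : Y ⟶ (0 : A)) comp_zero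
  have hS : S.ShortExact :=
    (ShortComplex.Splitting.ofIsIsoOfIsZero S (inferInstanceAs (IsIso e.hom))
      (Limits.isZero_zero A)).shortExact
  exact hP.ext S hS h (hP.zero _ (Limits.isZero_zero A))

theorem IsClosedProp.biprod {X Y : A} (hX : P X) (hY : P Y) : P (X ⊞ Y) := by
  let S : ShortComplex A := ShortComplex.mk (biprod.inl : X ⟶ X ⊞ Y) biprod.snd (by simp)
  exact hP.ext S (ShortComplex.Splitting.shortExact
    { r := biprod.fst, s := biprod.inr, f_r := by simp [S], s_g := by simp [S],
      id := biprod.total }) hX hY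

/-- An object generated by finitely many objects all of whose quotients satisfy the property. -/
theorem IsClosedProp.of_finset {ι : Type*} (G : ι → A)
    (hG : ∀ i, ∀ (Q : A) (π : G i ⟶ Q), Epi π → P Q) :
    ∀ (S : Finset ι) (F : A) (e : ∀ i ∈ S, G i ⟶ F),
      (∀ ⦃Z : A⦄ (g : F ⟶ Z), (∀ i (hi : i ∈ S), e i hi ≫ g = 0) → g = 0) → P F := by
  classical
  intro S
  induction S using Finset.induction_on with
  | empty =>
    intro F e he
    exact hP.zero _ ((IsZero.iff_id_eq_zero F).2 (he (𝟙 F) fun i hi => absurd hi (Finset.notMem_empty i)))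
  | @insert a S ha ih =>
    intro F e he
    let f := e a (Finset.mem_insert_self a S)
    let T : ShortComplex A := ShortComplex.mk (Limits.image.ι f) (cokernel.π _) (cokernel.condition _)
    have hT : T.ShortExact := { exact := ShortComplex.exact_cokernel _ }
    refine hP.ext T hT (hG a _ (factorThruImage f) inferInstance) ?_
    refine ih _ (fun i hi => e i (Finset.mem_insert_of_mem hi) ≫ cokernel.π _) fun Z g hg => ?_
    rw [← cancel_epi (cokernel.π (Limits.image.ι f)), comp_zero]
    refine he _ fun i hi => ?_
    rcases Finset.mem_insert.1 hi with rfl | hi'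
    · change f ≫ cokernel.π (Limits.image.ι f) ≫ g = 0
      have h0 : f ≫ cokernel.π (Limits.image.ι f) = 0 :=
        ((congrArg (fun t => t ≫ cokernel.π (Limits.image.ι f)) (Limits.image.fac f).symm).trans
          (Category.assoc _ _ _)).trans ((congrArg (fun t => factorThruImage f ≫ t) (cokernel.condition _)).trans comp_zero)
      rw [← Category.assoc]
      exact (congrArg (fun t => t ≫ g) h0).trans zero_comp
    · rw [← Category.assoc]; exact hg i hi'

variable [IsGrothendieckAbelian.{v} A]

omit hP in
/-- A jointly epic filtered system of subobjects has colimit the whole object. -/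
theorem isIso_desc_of_mono {J : Type v} [SmallCategory J] [IsFiltered J] {D : J ⥤ A} (c : Cocone D)
    (hm : ∀ j, Mono (c.ι.app j)) (he : ∀ ⦃Z : A⦄ (g : c.pt ⟶ Z), (∀ j, c.ι.app j ≫ g = 0) → g = 0) :
    IsIso (colimit.desc D c) := by
  have := IsFiltered.isConnected J
  have : Mono c.ι := NatTrans.mono_of_mono_app _
  have : Mono (colimit.desc D c) :=
    colim.map_mono' c.ι (colimit.isColimit D) (isColimitConstCocone J c.pt) _ fun j => by
      simp [constCocone]
  have : Epi (colimit.desc D c) := Preadditive.epi_of_cancel_zero _ fun g hg =>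
    he g fun j => by rw [← colimit.ι_desc c j, Category.assoc, hg, comp_zero]
  exact isIso_of_mono_of_epi _

theorem IsClosedProp.of_union {J : Type v} [SmallCategory J] [IsFiltered J] {D : J ⥤ A} (c : Cocone D)
    (hm : ∀ j, Mono (c.ι.app j)) (he : ∀ ⦃Z : A⦄ (g : c.pt ⟶ Z), (∀ j, c.ι.app j ≫ g = 0) → g = 0)
    (hD : ∀ j, P (D.obj j)) : P c.pt :=
  have := isIso_desc_of_mono c hm he
  hP.of_iso (asIso (colimit.desc D c)) (hP.colim J D _ (colimit.isColimit D) hD)

/-- The property holds for everything as soon as it holds for quotients of generators. -/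
theorem IsClosedProp.of_generated {ι : Type v} (G : ι → A)
    (hG : ∀ i, ∀ (Q : A) (π : G i ⟶ Q), Epi π → P Q) (F : A) (e : ∀ i, G i ⟶ F)
    (he : ∀ ⦃Z : A⦄ (g : F ⟶ Z), (∀ i, e i ≫ g = 0) → g = 0) : P F := by
  classical
  let sub : Finset ι → Subobject F := fun S => S.sup fun i => imageSubobject (e i)
  have hmono : Monotone sub := fun S T h => Finset.sup_mono h
  let D : Finset ι ⥤ A := hmono.functor ⋙ Subobject.underlying
  let c : Cocone D := ⟨F, { app := fun S => (sub S).arrow
                            naturality := fun S T h => by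
                              change Subobject.underlying.map _ ≫ (sub T).arrow = (sub S).arrow ≫ 𝟙 F
                              rw [Category.comp_id]
                              exact Subobject.underlying_arrow _ }⟩
  have hle : ∀ {S : Finset ι} {i : ι}, i ∈ S → imageSubobject (e i) ≤ sub S := fun hi =>
    Finset.le_sup (f := fun i => imageSubobject (e i)) hi
  refine hP.of_union c (fun S => inferInstanceAs (Mono (sub S).arrow)) (fun Z g hg => he g fun i => ?_)
    fun S => ?_
  · have h : (sub {i}).arrow ≫ g = 0 := hg {i}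
    rw [← imageSubobject_arrow_comp (e i),
      ← Subobject.ofLE_arrow (hle (Finset.mem_singleton_self i)), Category.assoc, Category.assoc, h,
      comp_zero, comp_zero]
  · refine hP.of_finset G hG S _ (fun i hi => factorThruImageSubobject (e i) ≫ Subobject.ofLE _ _ (hle hi))
      fun Z g hg => ?_
    let g' : (sub S : A) ⟶ Z := g
    have hm : Mono (kernel.ι g' ≫ (sub S).arrow) := mono_comp _ _
    have hg' : ∀ i (hi : i ∈ S), (factorThruImageSubobject (e i) ≫ Subobject.ofLE _ _ (hle hi)) ≫ g' = 0 := hg
    have hK : sub S ≤ Subobject.mk (kernel.ι g' ≫ (sub S).arrow) := Finset.sup_le fun i hi =>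
      imageSubobject_le (e i) (kernel.lift g' _ (hg' i hi) ≫ (Subobject.underlyingIso (kernel.ι g' ≫ (sub S).arrow)).inv)
        (by simp)
    have hid : (sub S).ofLEMk (kernel.ι g' ≫ (sub S).arrow) hK ≫ kernel.ι g' = 𝟙 _ := by
      rw [← cancel_mono (sub S).arrow, Category.assoc, Subobject.ofLEMk_comp, Category.id_comp]
    change g' = 0
    rw [← Category.id_comp g', ← hid, Category.assoc, kernel.condition, comp_zero]

end GrothLib.CohVan19
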