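import Groth.Prelude.Def_CohCx
import Mathlib.RingTheory.PrincipalIdealDomain
import Mathlib.RingTheory.Int.Basic
import Mathlib.Order.Hom.Order
import Mathlib.Topology.Sheaves.SheafCondition.UniqueGluing
import Mathlib.CategoryTheory.Sites.ConcreteSheafification
import Mathlib.CategoryTheory.Abelian.FunctorCategory

/-!
Presheaves of subgroups of the constant presheaf of integers.
-/

set_option autoImplicit false
universe u

open CategoryTheory CategoryTheory.Limits Opposite TopologicalSpace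

namespace GrothLib.CohVan19

theorem ideal_sup_inf {R : Type*} [CommRing R] [IsDomain R] [IsPrincipalIdealRing R] (A B C : Ideal R) :
    (A ⊔ B) ⊓ C = (A ⊓ C) ⊔ (B ⊓ C) := by
  refine le_antisymm (fun x hx => ?_) (sup_le (inf_le_inf_right _ le_sup_left) (inf_le_inf_right _ le_sup_right))
  obtain ⟨⟨g, hg⟩⟩ := IsPrincipalIdealRing.principal (A ⊔ B)
  have hgm : g ∈ A ⊔ B := hg ▸ Submodule.mem_span_singleton_self g
  obtain ⟨a, ha, b, hb, hab⟩ := Submodule.mem_sup.1 hgm
  obtain ⟨a', rfl⟩ := Submodule.mem_span_singleton.1 (hg ▸ Submodule.mem_sup_left ha : a ∈ Submodule.span R {g})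
  obtain ⟨b', rfl⟩ := Submodule.mem_span_singleton.1 (hg ▸ Submodule.mem_sup_right hb : b ∈ Submodule.span R {g})
  obtain ⟨k, rfl⟩ := Submodule.mem_span_singleton.1 (hg ▸ hx.1 : x ∈ Submodule.span R {g})
  have e : k • g = k • (a' • g) + k • (b' • g) := by rw [← smul_add, hab]
  rw [e]
  refine Submodule.add_mem_sup ⟨A.smul_mem k ha, ?_⟩ ⟨B.smul_mem k hb, ?_⟩
  · rw [smul_comm]; exact C.smul_mem _ hx.2
  · rw [smul_comm]; exact C.smul_mem _ hx.2

variable {X : TopCat.{u}}

/-- A subgroup of `ℤ` for each open, decreasing in the open. -/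
abbrev Lev (X : TopCat.{u}) := (Opens X)ᵒᵈ →o Ideal ℤ

/-- The value at an open. -/
def Lev.val (a : Lev X) (W : Opens X) : Ideal ℤ := a (OrderDual.toDual W)

theorem Lev.anti (a : Lev X) {V W : Opens X} (h : V ≤ W) : a.val W ≤ a.val V :=
  a.monotone (OrderDual.toDual_le_toDual.2 h)

theorem Lev.le_def {a b : Lev X} : a ≤ b ↔ ∀ W, a.val W ≤ b.val W := Iff.rfl

theorem Lev.ext' {a b : Lev X} (h : ∀ W, a.val W = b.val W) : a = b :=
  OrderHom.ext _ _ (funext fun W => h (OrderDual.ofDual W))

open Classical in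
/-- The level `I` on the opens inside `V`. -/
noncomputable def gen (V : Opens X) (I : Ideal ℤ) : Lev X :=
  ⟨fun W => if OrderDual.ofDual W ≤ V then I else ⊥, fun W W' h => by
    by_cases hW : OrderDual.ofDual W ≤ V
    · have hW' : OrderDual.ofDual W' ≤ V := le_trans (OrderDual.ofDual_le_ofDual.2 h) hW
      simp [hW, hW']
    · simp [hW]⟩

theorem gen_val_of_le {V W : Opens X} (I : Ideal ℤ) (h : W ≤ V) : (gen V I).val W = I := if_pos h

theorem gen_val_of_not_le {V W : Opens X} (I : Ideal ℤ) (h : ¬ W ≤ V) : (gen V I).val W = ⊥ := if_neg h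

theorem gen_inf (V V' : Opens X) (I I' : Ideal ℤ) : gen V I ⊓ gen V' I' = gen (V ⊓ V') (I ⊓ I') :=
  Lev.ext' fun W => by
    change (gen V I).val W ⊓ (gen V' I').val W = _
    by_cases h : W ≤ V
    · by_cases h' : W ≤ V'
      · rw [gen_val_of_le _ h, gen_val_of_le _ h', gen_val_of_le _ (le_inf h h')]
      · rw [gen_val_of_not_le _ h', inf_bot_eq,
          gen_val_of_not_le _ fun hh => h' (hh.trans inf_le_right)]
    · rw [gen_val_of_not_le _ h, bot_inf_eq,
        gen_val_of_not_le _ fun hh => h (hh.trans inf_le_left)]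

theorem finset_sup_inf_gen {ι : Type*} (S : Finset ι) (f : ι → Lev X) (c : Lev X) :
    S.sup f ⊓ c = S.sup fun i => f i ⊓ c := by
  classical
  induction S using Finset.induction_on with
  | empty => exact Lev.ext' fun W => bot_inf_eq _
  | @insert a S _ ih =>
    rw [Finset.sup_insert, Finset.sup_insert, ← ih]
    exact Lev.ext' fun W => ideal_sup_inf _ _ _

/-- The presheaf attached to a level function. -/
def pre (a : Lev X) : (Opens X)ᵒᵖ ⥤ AddCommGrpCat.{u} where
  obj W := AddCommGrpCat.of (ULift.{u} (a.val W.unop))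
  map f := AddCommGrpCat.ofHom
    (AddMonoidHom.mk' (fun x => ⟨⟨x.down.1, a.anti f.unop.le x.down.2⟩⟩) fun _ _ => rfl)
  map_id _ := rfl
  map_comp _ _ := rfl

theorem pre_ext {a : Lev X} {W : (Opens X)ᵒᵖ} {x y : (pre a).obj W} (h : x.down.1 = y.down.1) : x = y :=
  ULift.ext _ _ (Subtype.ext h)

/-- Inclusion of level functions. -/
def incl {a b : Lev X} (h : a ≤ b) : pre a ⟶ pre b where
  app W := AddCommGrpCat.ofHom
    (AddMonoidHom.mk' (fun x => ⟨⟨x.down.1, h (OrderDual.toDual W.unop) x.down.2⟩⟩) fun _ _ => rfl)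
  naturality _ _ _ := rfl

@[reassoc]
theorem incl_comp {a b c : Lev X} (h : a ≤ b) (h' : b ≤ c) : incl h ≫ incl h' = incl (h.trans h') := rfl

instance {a b : Lev X} (h : a ≤ b) : Mono (incl h) := by
  have : ∀ W, Mono ((incl h).app W) := fun W => (AddCommGrpCat.mono_iff_injective _).2 fun x y hxy =>
    pre_ext (congrArg (fun z => z.down.1) hxy)
  exact NatTrans.mono_of_mono_app _

/-- The Mayer–Vietoris sequence of two level functions. -/
noncomputable def mv (a b : Lev X) : ShortComplex ((Opens X)ᵒᵖ ⥤ AddCommGrpCat.{u}) :=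
  ShortComplex.mk (biprod.lift (incl (inf_le_left : a ⊓ b ≤ a)) (-incl (inf_le_right : a ⊓ b ≤ b)))
    (biprod.desc (incl (le_sup_left : a ≤ a ⊔ b)) (incl (le_sup_right : b ≤ a ⊔ b))) (by
      rw [biprod.lift_desc, Preadditive.neg_comp, incl_comp, incl_comp, add_neg_cancel])

theorem mv_shortExact (a b : Lev X) : (mv a b).ShortExact := by
  have hi : Mono (incl (inf_le_left : a ⊓ b ≤ a)) := inferInstance
  have hm : Mono (mv a b).f :=
    @mono_of_mono_fac _ _ _ _ _ _ _ _ hi (biprod.lift_fst _ _)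
  refine { exact := ShortComplex.exact_of_f_is_kernel _ (KernelFork.IsLimit.ofι' _ _ fun {Z} k hk => ?_)
           epi_g := Preadditive.epi_of_cancel_zero _ fun g hg => ?_ }
  · let k₁ := k ≫ biprod.fst
    let k₂ := k ≫ biprod.snd
    have hk' : k₁ ≫ incl (le_sup_left : a ≤ a ⊔ b) + k₂ ≫ incl (le_sup_right : b ≤ a ⊔ b) = 0 := by
      exact ((congrArg₂ (· + ·) (Category.assoc _ _ _) (Category.assoc _ _ _)).trans
        (Preadditive.comp_add _ _ _ k _ _).symm).trans ((congrArg (fun t => k ≫ t) biprod.desc_eq.symm).trans hk)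
    have key : ∀ W (z : Z.obj W), ((k₁.app W z).down.1 : ℤ) + (k₂.app W z).down.1 = 0 := fun W z =>
      congrArg (fun t => t.down.1) (ConcreteCategory.congr_hom (NatTrans.congr_app hk' W) z)
    have hmem : ∀ W (z : Z.obj W), ((k₁.app W z).down.1 : ℤ) ∈ (a ⊓ b).val W.unop := fun W z => by
      refine ⟨(k₁.app W z).down.2, ?_⟩
      rw [eq_neg_of_add_eq_zero_left (key W z)]
      exact neg_mem (k₂.app W z).down.2
    let l : Z ⟶ pre (a ⊓ b) :=
      { app := fun W => AddCommGrpCat.ofHom (AddMonoidHom.mk' (fun z => ⟨⟨_, hmem W z⟩⟩)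
          fun z z' => pre_ext (congrArg (fun t => t.down.1) (map_add (k₁.app W).hom z z')))
        naturality := fun W W' f => by
          ext z
          exact pre_ext (congrArg (fun t => t.down.1) (ConcreteCategory.congr_hom (k₁.naturality f) z)) }
    refine ⟨l, biprod.hom_ext _ _ ?_ ?_⟩
    · simp only [mv, Category.assoc, biprod.lift_fst]
      ext W z
      exact pre_ext rfl
    · simp only [mv, Category.assoc, biprod.lift_snd]
      ext W z
      exact pre_ext ((eq_neg_of_add_eq_zero_right (key W z)).symm)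
  · have h₁ : incl (le_sup_left : a ≤ a ⊔ b) ≫ g = 0 := by
      exact ((congrArg (fun t => t ≫ g) (biprod.inl_desc _ _).symm).trans (Category.assoc _ _ _)).trans
        ((congrArg (fun t => biprod.inl ≫ t) hg).trans comp_zero)
    have h₂ : incl (le_sup_right : b ≤ a ⊔ b) ≫ g = 0 := by
      exact ((congrArg (fun t => t ≫ g) (biprod.inr_desc _ _).symm).trans (Category.assoc _ _ _)).trans
        ((congrArg (fun t => biprod.inr ≫ t) hg).trans comp_zero)
    ext W x
    obtain ⟨p, hp, q, hq, hpq⟩ := Submodule.mem_sup.1 (show x.down.1 ∈ a.val W.unop ⊔ b.val W.unop from x.down.2)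
    have hx : x = (incl (le_sup_left : a ≤ a ⊔ b)).app W ⟨⟨p, hp⟩⟩ +
        (incl (le_sup_right : b ≤ a ⊔ b)).app W ⟨⟨q, hq⟩⟩ := pre_ext hpq.symm
    have e₁ := ConcreteCategory.congr_hom (NatTrans.congr_app h₁ W) (⟨⟨p, hp⟩⟩ : (pre a).obj W)
    have e₂ := ConcreteCategory.congr_hom (NatTrans.congr_app h₂ W) (⟨⟨q, hq⟩⟩ : (pre b).obj W)
    exact ((congrArg (g.app W).hom hx).trans (map_add (g.app W).hom _ _)).trans
      ((congrArg₂ (· + ·) e₁ e₂).trans (add_zero _))

theorem isZero_pre {a : Lev X} (h : ∀ W, a.val W = ⊥) : IsZero (pre a) :=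
  Functor.isZero _ fun W => by
    have : Subsingleton ((pre a).obj W) := ⟨fun x y => pre_ext <| by
      rw [(Submodule.eq_bot_iff _).1 (h W.unop) _ x.down.2, (Submodule.eq_bot_iff _).1 (h W.unop) _ y.down.2]⟩
    exact AddCommGrpCat.isZero_of_subsingleton _

/-- Multiplication by a nonzero integer identifies levels. -/
noncomputable def genMulIso (V : Opens X) (n : ℤ) (hn : n ≠ 0) : pre (gen V ⊤) ≅ pre (gen V (Ideal.span {n})) :=
  NatIso.ofComponents (fun W => by
    let f : ↥((gen V ⊤).val W.unop) → ↥((gen V (Ideal.span {n})).val W.unop) := fun x => ⟨n * x.1, by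
      by_cases h : W.unop ≤ V
      · rw [gen_val_of_le _ h]; exact Ideal.mul_mem_right _ _ (Ideal.mem_span_singleton_self n)
      · have := (Submodule.eq_bot_iff _).1 (gen_val_of_not_le ⊤ h) _ x.2
        rw [this, mul_zero]
        exact zero_mem _⟩
    have hf : Function.Bijective f := ⟨fun x y h => Subtype.ext (mul_left_cancel₀ hn (congrArg Subtype.val h)),
      fun y => by
        by_cases h : W.unop ≤ V
        · obtain ⟨c, hc⟩ := Ideal.mem_span_singleton.1
            ((gen_val_of_le (Ideal.span {n}) h).le y.2)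
          exact ⟨⟨c, by rw [gen_val_of_le _ h]; trivial⟩, Subtype.ext hc.symm⟩
        · have := (Submodule.eq_bot_iff _).1 (gen_val_of_not_le (Ideal.span {n}) h) _ y.2
          exact ⟨⟨0, zero_mem _⟩, Subtype.ext ((mul_zero n).trans this.symm)⟩⟩
    exact AddEquiv.toAddCommGrpIso (AddEquiv.ulift.trans ((AddEquiv.mk' (Equiv.ofBijective f hf)
      fun x y => Subtype.ext (mul_add n x.1 y.1)).trans AddEquiv.ulift.symm)))
    fun _ => rfl

theorem bijective_lift_const {α : Type u} (M : Type u) [AddCommGroup M] (m : M)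
    (h₁ : Nonempty α → ∀ y : M, ∃! k : ℤ, k • m = y) (h₂ : IsEmpty α → Subsingleton M) [Subsingleton α] :
    Function.Bijective (FreeAbelianGroup.lift fun _ : α => m) := by
  rcases isEmpty_or_nonempty α with h | h
  · have := h₂ h
    have : Subsingleton (FreeAbelianGroup α) := subsingleton_of_forall_eq 0 fun x => by
      induction x using FreeAbelianGroup.induction_on' with
      | zero => rfl
      | pure z => exact isEmptyElim z
      | neg z _ => exact isEmptyElim z
      | add x y hx hy => rw [hx, hy, add_zero]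
    exact ⟨fun _ _ _ => Subsingleton.elim _ _, fun y => ⟨0, Subsingleton.elim _ _⟩⟩
  · obtain ⟨z⟩ := h
    have hgen : ∀ x : FreeAbelianGroup α, ∃ k : ℤ, x = k • FreeAbelianGroup.of z := fun x => by
      induction x using FreeAbelianGroup.induction_on' with
      | zero => exact ⟨0, (zero_zsmul _).symm⟩
      | pure w => exact ⟨1, by rw [one_zsmul, Subsingleton.elim w z]; rfl⟩
      | neg w hw => obtain ⟨k, hk⟩ := hw; exact ⟨-k, by rw [hk, neg_zsmul]⟩
      | add x y hx hy =>
        obtain ⟨k, rfl⟩ := hx; obtain ⟨l, rfl⟩ := hy; exact ⟨k + l, (add_zsmul _ _ _).symm⟩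
    refine ⟨fun x y hxy => ?_, fun y => ?_⟩
    · obtain ⟨k, rfl⟩ := hgen x
      obtain ⟨l, rfl⟩ := hgen y
      rw [map_zsmul, map_zsmul, FreeAbelianGroup.lift_apply_of] at hxy
      rw [(h₁ ⟨z⟩ (l • m)).unique hxy rfl]
    · obtain ⟨k, hk, -⟩ := h₁ ⟨z⟩ y
      exact ⟨k • FreeAbelianGroup.of z, by rw [map_zsmul, FreeAbelianGroup.lift_apply_of, hk]⟩

open Classical in
/-- The free presheaf on an open. -/
noncomputable def freeIso (U : Opens X) : yoneda.obj U ⋙ AddCommGrpCat.free.{u} ≅ pre (gen U ⊤) :=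
  NatIso.ofComponents (fun W =>
    let m : ULift.{u} ↥((gen U ⊤).val W.unop) :=
      ⟨⟨if W.unop ≤ U then 1 else 0, by
        split_ifs with h
        · rw [gen_val_of_le _ h]; trivial
        · exact zero_mem _⟩⟩
    AddEquiv.toAddCommGrpIso (AddEquiv.ofBijective (FreeAbelianGroup.lift fun _ : W.unop ⟶ U => m)
      (bijective_lift_const _ m
        (fun ⟨f⟩ y => ⟨y.down.1, ULift.ext _ _ (Subtype.ext (by simp [m, f.le])), fun k hk => by
          simpa [m, f.le] using congrArg (fun t => t.down.1) hk⟩)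
        (fun hE => ⟨fun x y => ULift.ext _ _ (Subtype.ext (by
          have hW : ¬ W.unop ≤ U := fun h => hE.false (homOfLE h)
          rw [(Submodule.eq_bot_iff _).1 (gen_val_of_not_le ⊤ hW) _ x.down.2,
            (Submodule.eq_bot_iff _).1 (gen_val_of_not_le ⊤ hW) _ y.down.2]))⟩))))
    fun {W W'} f => by
      refine AddCommGrpCat.hom_ext (FreeAbelianGroup.lift_ext _ _ fun a => pre_ext ?_)
      have h : W.unop ≤ U := (show W.unop ⟶ U from a).le
      simp [pre, h, f.unop.le.trans h]
      rfl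

end GrothLib.CohVan19
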