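import Groth.Agent.Lib.CohVan19.Closure
import Groth.Agent.Lib.CohVan19.Levels
import Groth.Agent.Lib.ColimCoh.Top
import Groth.Agent.Lib.SheafCoh.Terminal
import Mathlib.Algebra.Homology.DerivedCategory.Ext.ExactSequences
import Mathlib.Topology.QuasiSeparated

/-!
Vanishing of cohomology above a degree is detected on extensions by zero of `ℤ`.
-/

set_option autoImplicit false
universe u

open CategoryTheory CategoryTheory.Limits Opposite TopologicalSpace Abelian

namespace GrothLib.CohVan19

variable {X : TopCat.{u}}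

/-- Vanishing of the cohomology in degrees above `d`. -/
def Van (d : ℕ) (F : CohTop.Ab X) : Prop := ∀ p : ℕ, d < p → Subsingleton (CohTop.H F p)

theorem isClosedProp_van [CompactSpace X] [PrespectralSpace X] [QuasiSeparatedSpace X] (d : ℕ) :
    IsClosedProp (Van (X := X) d) where
  zero Z hZ p _ := Sheaf.subsingleton_H_of_isZero hZ p
  ext S hS h₁ h₃ p hp := subsingleton_of_forall_eq 0 fun x => by
    have := h₁ p hp
    have := h₃ p hp
    obtain ⟨y, hy⟩ := Ext.covariant_sequence_exact₂ _ hS x
      (Subsingleton.elim (α := CohTop.H S.X₃ p) _ _)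
    rw [← hy, show y = 0 from Subsingleton.elim (α := CohTop.H S.X₁ p) _ _, Ext.zero_comp]
  coker S hS h₁ h₂ p hp := subsingleton_of_forall_eq 0 fun x => by
    have := h₁ (p + 1) (by omega)
    have := h₂ p hp
    obtain ⟨y, hy⟩ := Ext.covariant_sequence_exact₃ _ hS x rfl
      (Subsingleton.elim (α := CohTop.H S.X₁ (p + 1)) _ _)
    rw [← hy, show y = 0 from Subsingleton.elim (α := CohTop.H S.X₂ p) _ _, Ext.zero_comp]
  colim I _ _ D c hc hD p hp := by
    have := ColimCoh.preservesColimit_cohomology_of_isQuasiSeparated (W := (⊤ : Opens X))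
      (isQuasiSeparated_univ_iff.2 inferInstance) CompactSpace.isCompact_univ D p
    let G := (Sheaf.cohomologyPresheafFunctor (Opens.grothendieckTopology X) p).flip.obj (op (⊤ : Opens X))
    let e : ∀ F : CohTop.Ab X, CohTop.H F p ≃+ ↑(G.obj F) := fun F =>
      SheafCoh.extPrecompIso (SheafCoh.freeYTerminalIso (J := Opens.grothendieckTopology X)
        (isTerminalTop (α := Opens X))) F p
    refine @Equiv.subsingleton _ _ (e c.pt).toEquiv (subsingleton_of_forall_eq 0 fun x => ?_)
    obtain ⟨i, y, hy⟩ := Concrete.isColimit_exists_rep _ (isColimitOfPreserves G hc) x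
    have := hD i p hp
    have : Subsingleton ↑(G.obj (D.obj i)) := (e (D.obj i)).symm.toEquiv.subsingleton
    exact hy.symm.trans ((congrArg (G.map (c.ι.app i)).hom
      (Subsingleton.elim (α := ↑(G.obj (D.obj i))) y 0)).trans (map_zero (G.map (c.ι.app i)).hom))

/-- A section vanishing on all compact opens inside an open vanishes. -/
theorem eq_zero_of_compact [PrespectralSpace X] (Z : CohTop.Ab X) {W : Opens X} (s : Z.obj.obj (op W))
    (h : ∀ (V : Opens X) (hV : V ≤ W), IsCompact (V : Set X) → (Z.obj.map (homOfLE hV).op).hom s = 0) :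
    s = 0 := by
  refine TopCat.Sheaf.eq_of_locally_eq' (F := Z) (fun V : {V : Opens X // IsCompact (V : Set X) ∧ V ≤ W} => V.1)
    W (fun V => homOfLE V.2.2) ?_ s 0 fun V => (h V.1 V.2.2 V.2.1).trans (map_zero _).symm
  intro x hx
  obtain ⟨V, ⟨hVo, hVc⟩, hxV, hVW⟩ :=
    (PrespectralSpace.isTopologicalBasis (X := X)).exists_subset_of_mem_open hx W.isOpen
  exact Opens.mem_iSup.2 ⟨⟨⟨V, hVo⟩, hVc, hVW⟩, hxV⟩

/-- Sheafification of presheaves of abelian groups on `X`. -/
noncomputable abbrev sh (X : TopCat.{u}) : ((Opens X)ᵒᵖ ⥤ AddCommGrpCat.{u}) ⥤ CohTop.Ab X :=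
  presheafToSheaf (Opens.grothendieckTopology X) AddCommGrpCat.{u}

variable [CompactSpace X] [PrespectralSpace X] [QuasiSeparatedSpace X] {d : ℕ}
  (h : ∀ U : Opens X, IsCompact (U : Set X) → Van d (CohCx.freeSheaf (Opens.grothendieckTopology X) U))
include h

theorem van_pre_sup {ι : Type*} (S : Finset ι) : ∀ (f : ι → Opens X) (I : ι → Ideal ℤ),
    (∀ i ∈ S, IsCompact (f i : Set X)) → Van d ((sh X).obj (pre (S.sup fun i => gen (f i) (I i)))) := by
  classical
  have hP := isClosedProp_van (X := X) d
  have : (sh X).Additive := inferInstance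
  have := preservesBinaryBiproducts_of_preservesBiproducts (sh X)
  induction S using Finset.induction_on with
  | empty => exact fun _ _ _ => hP.zero _ ((sh X).map_isZero (isZero_pre fun _ => rfl))
  | @insert a S _ ih =>
    intro f I hf
    rw [Finset.sup_insert]
    have ha := hf a (Finset.mem_insert_self a S)
    have hgen : Van d ((sh X).obj (pre (gen (f a) (I a)))) := by
      obtain ⟨⟨n, hn⟩⟩ := IsPrincipalIdealRing.principal (I a)
      have hn' : I a = Ideal.span {n} := hn
      by_cases h0 : n = 0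
      · refine hP.zero _ ((sh X).map_isZero (isZero_pre fun W => ?_))
        rw [hn', h0, Ideal.span_singleton_eq_bot.2 rfl]
        exact ite_self _
      · rw [hn']
        exact hP.of_iso ((sh X).mapIso (freeIso (f a) ≪≫ genMulIso (f a) n h0)) (h (f a) ha)
    have hS := ih f I fun i hi => hf i (Finset.mem_insert_of_mem hi)
    have hinf : Van d ((sh X).obj (pre (gen (f a) (I a) ⊓ S.sup fun i => gen (f i) (I i)))) := by
      rw [inf_comm, finset_sup_inf_gen]
      simp only [gen_inf]
      exact ih (fun i => f i ⊓ f a) (fun i => I i ⊓ I a) fun i hi => by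
        rw [Opens.coe_inf]
        exact (hf i (Finset.mem_insert_of_mem hi)).inter_of_isOpen ha (f i).isOpen (f a).isOpen
    exact hP.coker _ ((mv_shortExact (gen (f a) (I a)) (S.sup fun i => gen (f i) (I i))).map_of_exact (sh X))
      hinf (hP.of_iso ((sh X).mapBiprod _ _).symm (hP.biprod hgen hS))

theorem van_pre (k : Lev X) : Van d ((sh X).obj (pre k)) := by
  classical
  have hP := isClosedProp_van (X := X) d
  let ι := {p : Opens X × Ideal ℤ // IsCompact (p.1 : Set X) ∧ gen p.1 p.2 ≤ k}
  let σ : Finset ι → Lev X := fun S => S.sup fun i => gen i.1.1 i.1.2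
  have hσ : ∀ S, σ S ≤ k := fun S => Finset.sup_le fun i _ => i.2.2
  let D : Finset ι ⥤ CohTop.Ab X :=
    { obj := fun S => (sh X).obj (pre (σ S))
      map := fun φ => (sh X).map (incl (Finset.sup_mono φ.le))
      map_id := fun S => (sh X).map_id _
      map_comp := fun φ ψ => by rw [← Functor.map_comp, incl_comp] }
  let c : Cocone D := ⟨(sh X).obj (pre k),
    { app := fun S => (sh X).map (incl (hσ S))
      naturality := fun S T φ => by
        change (sh X).map _ ≫ (sh X).map _ = (sh X).map _ ≫ 𝟙 _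
        rw [← Functor.map_comp, incl_comp, Category.comp_id] }⟩
  refine hP.of_union c (fun S => inferInstanceAs (Mono ((sh X).map _))) (fun Z g hg => ?_)
    fun S => van_pre_sup h S _ _ fun i _ => i.2.1
  let adj := sheafificationAdjunction (Opens.grothendieckTopology X) AddCommGrpCat.{u}
  have hS : ∀ S, incl (hσ S) ≫ adj.homEquiv _ _ g = 0 := fun S => by
    rw [← adj.homEquiv_naturality_left, show (sh X).map (incl (hσ S)) ≫ g = 0 from hg S]
    rw [adj.homEquiv_unit, Functor.map_zero, comp_zero]
  apply (adj.homEquiv _ _).injective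
  rw [show adj.homEquiv _ _ (0 : (sh X).obj (pre k) ⟶ Z) = 0 by
    rw [adj.homEquiv_unit, Functor.map_zero, comp_zero]]
  ext W x
  refine eq_zero_of_compact Z _ fun V hV hVc => ?_
  refine ((ConcreteCategory.congr_hom ((adj.homEquiv _ _ g).naturality (homOfLE hV).op) x).symm).trans ?_
  have hmem : x.down.1 ∈ k.val V := k.anti hV x.down.2
  let i : ι := ⟨(V, Ideal.span {x.down.1}), hVc, Lev.le_def.2 fun W' => by
    by_cases h' : W' ≤ V
    · rw [gen_val_of_le _ h', Ideal.span_le]
      exact Set.singleton_subset_iff.2 (k.anti h' hmem)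
    · rw [gen_val_of_not_le _ h']; exact bot_le⟩
  have hx : x.down.1 ∈ (σ {i}).val V := by
    simp only [σ, Finset.sup_singleton]
    rw [gen_val_of_le _ le_rfl]
    exact Ideal.mem_span_singleton_self _
  exact ConcreteCategory.congr_hom (NatTrans.congr_app (hS {i}) (op V)) (⟨⟨_, hx⟩⟩ : (pre (σ {i})).obj (op V))

theorem van_quotient {U : Opens X} (Q : CohTop.Ab X)
    (π : CohCx.freeSheaf (Opens.grothendieckTopology X) U ⟶ Q) [Epi π] : Van d Q := by
  have hP := isClosedProp_van (X := X) d
  let adj := sheafificationAdjunction (Opens.grothendieckTopology X) AddCommGrpCat.{u}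
  let π' : (sh X).obj (pre (gen U ⊤)) ⟶ Q := (sh X).map (freeIso U).inv ≫ π
  let ψ := adj.homEquiv _ _ π'
  let k : Lev X := ⟨fun W =>
    { carrier := {n | ∃ hn : n ∈ (gen U ⊤).val (OrderDual.ofDual W),
        (ψ.app (op (OrderDual.ofDual W))).hom ⟨⟨n, hn⟩⟩ = 0}
      zero_mem' := ⟨zero_mem _, map_zero _⟩
      add_mem' := fun {a b} ha hb => by
        obtain ⟨ha, ha'⟩ := ha
        obtain ⟨hb, hb'⟩ := hb
        exact ⟨add_mem ha hb, (map_add (ψ.app _).hom ⟨⟨a, ha⟩⟩ ⟨⟨b, hb⟩⟩).trans (by rw [ha', hb', add_zero])⟩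
      smul_mem' := fun c {a} ha => by
        obtain ⟨ha, ha'⟩ := ha
        refine ⟨Ideal.mul_mem_left _ _ ha, ?_⟩
        exact ((congrArg (ψ.app _).hom (show _ = c • (⟨⟨a, ha⟩⟩ : (pre (gen U ⊤)).obj (op (OrderDual.ofDual W))) from
          pre_ext rfl)).trans (map_zsmul (ψ.app _).hom c _)).trans (by rw [ha', smul_zero]) },
    fun W W' hW n hn => by
      obtain ⟨hn, hn'⟩ := hn
      refine ⟨(gen U ⊤).anti hW hn, ?_⟩
      exact (ConcreteCategory.congr_hom (ψ.naturality (homOfLE (OrderDual.ofDual_le_ofDual.2 hW)).op) _).trans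
        ((congrArg _ hn').trans (map_zero (Q.obj.map (homOfLE (OrderDual.ofDual_le_ofDual.2 hW)).op).hom))⟩
  have hk : k ≤ gen U ⊤ := fun W n hn => hn.1
  let T : ShortComplex ((Opens X)ᵒᵖ ⥤ AddCommGrpCat.{u}) := ShortComplex.mk (incl hk) ψ (by
    ext W n
    exact n.down.2.2)
  have hT : T.Exact := ShortComplex.exact_of_f_is_kernel _ (KernelFork.IsLimit.ofι' _ _ fun {Z} l hl => by
    have hmem : ∀ W (z : Z.obj W), ((l.app W).hom z).down.1 ∈ k.val W.unop := fun W z =>
      ⟨((l.app W).hom z).down.2, ConcreteCategory.congr_hom (NatTrans.congr_app hl W) z⟩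
    refine ⟨{ app := fun W => AddCommGrpCat.ofHom (AddMonoidHom.mk' (fun z => ⟨⟨_, hmem W z⟩⟩)
                fun z z' => pre_ext (congrArg (fun t => t.down.1) (map_add (l.app W).hom z z')))
              naturality := fun W W' f => by
                ext z
                exact pre_ext (congrArg (fun t => t.down.1) (ConcreteCategory.congr_hom (l.naturality f) z)) }, ?_⟩
    ext W z
    exact pre_ext rfl)
  have : Epi ((sh X).map ψ) := by
    have : Epi ((sh X).map ψ ≫ adj.counit.app Q) := by
      rw [show (sh X).map ψ ≫ adj.counit.app Q = π' from (adj.homEquiv_counit _ _ ψ).symm.trans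
        ((adj.homEquiv _ _).symm_apply_apply π')]
      infer_instance
    have e : (sh X).map ψ = ((sh X).map ψ ≫ adj.counit.app Q) ≫ inv (adj.counit.app Q) := by simp
    rw [e]
    infer_instance
  have hS : (T.map (sh X)).ShortExact :=
    { exact := hT.map (sh X)
      mono_f := inferInstanceAs (Mono ((sh X).map (incl hk)))
      epi_g := this }
  exact hP.of_iso (asIso (adj.counit.app Q))
    (hP.coker _ hS (van_pre h k) (van_pre h (gen U ⊤)))

theorem van_all (F : CohTop.Ab X) : Van d F := by
  have hP := isClosedProp_van (X := X) d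
  let adj := sheafificationAdjunction (Opens.grothendieckTopology X) AddCommGrpCat.{u}
  let ι := Σ U : {U : Opens X // IsCompact (U : Set X)}, F.obj.obj (op U.1)
  let η : ∀ i : ι, yoneda.obj i.1.1 ⋙ AddCommGrpCat.free.{u} ⟶ F.obj := fun i =>
    { app := fun W => AddCommGrpCat.ofHom (FreeAbelianGroup.lift fun f : W.unop ⟶ i.1.1 => (F.obj.map f.op).hom i.2)
      naturality := fun W W' φ => by
        refine AddCommGrpCat.hom_ext (FreeAbelianGroup.lift_ext _ _ fun a => ?_)
        refine (congrArg (FreeAbelianGroup.lift fun f : W'.unop ⟶ i.1.1 => (F.obj.map f.op).hom i.2)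
          (FreeAbelianGroup.map_of_apply a)).trans ?_
        refine (FreeAbelianGroup.lift_apply_of _ _).trans (Eq.trans ?_
          (congrArg (F.obj.map φ).hom (FreeAbelianGroup.lift_apply_of
            (fun f : W.unop ⟶ i.1.1 => (F.obj.map f.op).hom i.2) a)).symm)
        exact ConcreteCategory.congr_hom (F.obj.map_comp (show W.unop ⟶ i.1.1 from a).op φ) i.2 }
  refine hP.of_generated (fun i : ι => CohCx.freeSheaf (Opens.grothendieckTopology X) i.1.1)
    (fun i Q π _ => van_quotient h Q π) F (fun i => (adj.homEquiv _ _).symm (η i)) fun Z g hg => ?_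
  ext W s
  refine eq_zero_of_compact Z _ fun V hV hVc => ?_
  let i : ι := ⟨⟨V, hVc⟩, (F.obj.map (homOfLE hV).op).hom s⟩
  have h' := congrArg (adj.homEquiv _ _) (hg i)
  rw [adj.homEquiv_naturality_right, Equiv.apply_symm_apply,
    show adj.homEquiv _ _ (0 : CohCx.freeSheaf (Opens.grothendieckTopology X) V ⟶ Z) = 0 by
      rw [adj.homEquiv_unit, Functor.map_zero, comp_zero]] at h'
  have h'' := ConcreteCategory.congr_hom (NatTrans.congr_app h' (op V)) (FreeAbelianGroup.of (𝟙 V))
  refine ((ConcreteCategory.congr_hom (g.hom.naturality (homOfLE hV).op) s).symm).trans ?_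
  refine Eq.trans ?_ h''
  refine Eq.trans ?_ (congrArg (g.hom.app (op V)).hom (FreeAbelianGroup.lift_apply_of _ (𝟙 V))).symm
  simp [i]

end GrothLib.CohVan19
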